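import Cfsg.Agent.Lib.Sporadic.LyThree.Defs14

/-!
# Checks: conjugating elements
-/

set_option autoImplicit false
set_option maxRecDepth 100000

namespace CfsgLib.Sporadic.CosetCert.LyThree

open LyIndex LyG2Five LyCent PackedMatrix

theorem w_chk : ∀ j < numW, wOne j = true := by decide +kernel

theorem x_chk : ∀ a < numX, xOne a = true := by decide +kernel

theorem x_test : xTest = true := by decide +kernel

theorem small_chk : smallOK = true := by decide +kernel

theorem five_test : fiveTest = true := by decide +kernel

theorem orb_small : ∀ t < 125, orbOne 125 osPts osPar osSucc [wordS saW, wordS sbW] t = true := by decide +kernel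

theorem orb_five : ∀ t < 125, orbOne 125 o5Pts o5Par o5Succ [wordM faW, wordM fbW] t = true := by decide +kernel

end CfsgLib.Sporadic.CosetCert.LyThree
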