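import Cfsg.Agent.Lib.Sporadic.LyThree.Defs14

/-!
# Checks: counts in the stabilisers
-/

set_option autoImplicit false
set_option maxRecDepth 100000

namespace CfsgLib.Sporadic.CosetCert.LyThree

open LyIndex LyG2Five LyCent PackedMatrix

theorem three_count2 : threeOK 4 252 2 km2_Tab tm2_Tab = true := by decide +kernel

theorem three_count3 : threeOK 4 720 20 km3_Tab tm3_Tab = true := by decide +kernel

theorem three_count4 : threeOK 96 63 56 km4_Tab tm4_Tab = true := by decide +kernel

end CfsgLib.Sporadic.CosetCert.LyThree
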