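import Cfsg.Agent.Lib.Sporadic.LyThree.Defs14

/-!
# Checks: increasing keys
-/

set_option autoImplicit false
set_option maxRecDepth 100000

namespace CfsgLib.Sporadic.CosetCert.LyThree

open LyIndex LyG2Five LyCent PackedMatrix

theorem key_incr0 : ∀ t < 1024, (Nat.ble 12287 (0 + t) || Nat.blt (keyAt (0 + t)) (keyAt (0 + t + 1))) = true := by decide +kernel

theorem key_incr1 : ∀ t < 1024, (Nat.ble 12287 (1024 + t) || Nat.blt (keyAt (1024 + t)) (keyAt (1024 + t + 1))) = true := by decide +kernel

theorem key_incr2 : ∀ t < 1024, (Nat.ble 12287 (2048 + t) || Nat.blt (keyAt (2048 + t)) (keyAt (2048 + t + 1))) = true := by decide +kernel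

theorem key_incr3 : ∀ t < 1024, (Nat.ble 12287 (3072 + t) || Nat.blt (keyAt (3072 + t)) (keyAt (3072 + t + 1))) = true := by decide +kernel

theorem key_incr4 : ∀ t < 1024, (Nat.ble 12287 (4096 + t) || Nat.blt (keyAt (4096 + t)) (keyAt (4096 + t + 1))) = true := by decide +kernel

theorem key_incr5 : ∀ t < 1024, (Nat.ble 12287 (5120 + t) || Nat.blt (keyAt (5120 + t)) (keyAt (5120 + t + 1))) = true := by decide +kernel

theorem key_incr6 : ∀ t < 1024, (Nat.ble 12287 (6144 + t) || Nat.blt (keyAt (6144 + t)) (keyAt (6144 + t + 1))) = true := by decide +kernel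

theorem key_incr7 : ∀ t < 1024, (Nat.ble 12287 (7168 + t) || Nat.blt (keyAt (7168 + t)) (keyAt (7168 + t + 1))) = true := by decide +kernel

theorem key_incr8 : ∀ t < 1024, (Nat.ble 12287 (8192 + t) || Nat.blt (keyAt (8192 + t)) (keyAt (8192 + t + 1))) = true := by decide +kernel

theorem key_incr9 : ∀ t < 1024, (Nat.ble 12287 (9216 + t) || Nat.blt (keyAt (9216 + t)) (keyAt (9216 + t + 1))) = true := by decide +kernel

theorem key_incr10 : ∀ t < 1024, (Nat.ble 12287 (10240 + t) || Nat.blt (keyAt (10240 + t)) (keyAt (10240 + t + 1))) = true := by decide +kernel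

theorem key_incr11 : ∀ t < 1024, (Nat.ble 12287 (11264 + t) || Nat.blt (keyAt (11264 + t)) (keyAt (11264 + t + 1))) = true := by decide +kernel

end CfsgLib.Sporadic.CosetCert.LyThree
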