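import Cfsg.Agent.Lib.Sporadic.LyThree.Defs14

/-!
# Checks: keys, part 0
-/

set_option autoImplicit false
set_option maxRecDepth 100000

namespace CfsgLib.Sporadic.CosetCert.LyThree

open LyIndex LyG2Five LyCent PackedMatrix

theorem key_chk0 : ∀ t < 1024, keyOne (0 + t) = true := by decide +kernel

theorem key_chk1 : ∀ t < 1024, keyOne (1024 + t) = true := by decide +kernel

theorem key_chk2 : ∀ t < 1024, keyOne (2048 + t) = true := by decide +kernel

end CfsgLib.Sporadic.CosetCert.LyThree
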