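import Cfsg.Agent.Lib.Sporadic.LyThree.Defs14

/-!
# Checks: keys, part 1
-/

set_option autoImplicit false
set_option maxRecDepth 100000

namespace CfsgLib.Sporadic.CosetCert.LyThree

open LyIndex LyG2Five LyCent PackedMatrix

theorem key_chk3 : ∀ t < 1024, keyOne (3072 + t) = true := by decide +kernel

theorem key_chk4 : ∀ t < 1024, keyOne (4096 + t) = true := by decide +kernel

theorem key_chk5 : ∀ t < 1024, keyOne (5120 + t) = true := by decide +kernel

end CfsgLib.Sporadic.CosetCert.LyThree
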