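import Cfsg.Agent.Lib.Sporadic.LyThree.Defs111

/-!
# Checks in degree 111 (Orb)
-/

set_option autoImplicit false
set_option maxRecDepth 100000

namespace CfsgLib.Sporadic.CosetCert.LyThree

theorem root_test : rootTest = true := by decide +kernel

theorem orbit_test : ((List.range 243).all otOne) = true := by decide +kernel

end CfsgLib.Sporadic.CosetCert.LyThree
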